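import Mathlib
import Cfsg.Agent.Lib.Basics.Cores
import Cfsg.Agent.Lib.Basics.Tools

/-!
Fewer than `p ^ 2` Sylow `p`-subgroups: all of them share a subgroup of index `p`.

Two distinct Sylow subgroups meet in a subgroup of index `p`.  The Sylow subgroups containing a given
intersection form a "line"; a line has at least `p + 1` members, and a Sylow subgroup outside a line
lies on at most `p + 1` lines meeting it, so a second line would give `1 + (p + 1) * p` of them.
-/

set_option autoImplicit false

open scoped Pointwise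

namespace Cfsg.Agent.Blocks.SylowLtSquare

universe u

variable {G : Type u} [Group G] [Finite G] {p : ℕ} [hp : Fact p.Prime]

/-- Stabiliser of `Q` in `P`, and the orbit bound. -/
theorem card_inf_mul (hn : Nat.card (Sylow p G) < p ^ 2) {P Q : Sylow p G} (hPQ : P ≠ Q) :
    Nat.card ↥((P : Subgroup G) ⊓ (Q : Subgroup G)) * p = Nat.card ↥(P : Subgroup G) := by
  classical
  haveI := Fintype.ofFinite G
  have horb : Nat.card (MulAction.orbit ↥(P : Subgroup G) Q) =
      (MulAction.stabilizer ↥(P : Subgroup G) Q).index :=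
    (MulAction.index_stabilizer _ _).symm
  have hstab : MulAction.stabilizer ↥(P : Subgroup G) Q = (Q : Subgroup G).subgroupOf P := by
    ext x
    rw [MulAction.mem_stabilizer_iff, Subgroup.mem_subgroupOf]
    show (x : G) • Q = Q ↔ _
    rw [Sylow.smul_eq_iff_mem_normalizer]
    constructor
    · intro hx
      have hxp : IsPGroup p (Subgroup.zpowers (x : G)) :=
        P.isPGroup'.to_le (Subgroup.zpowers_le.mpr x.2)
      have := Q.is_maximal' (Q.isPGroup'.to_sup_of_normal_left' hxp (Subgroup.zpowers_le.mpr hx))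
        le_sup_left
      exact this.le (Subgroup.mem_sup_right (Subgroup.mem_zpowers _))
    · exact fun hx => Subgroup.le_normalizer hx
  obtain ⟨k, hk⟩ := P.isPGroup'.index (MulAction.stabilizer ↥(P : Subgroup G) Q)
  have hlt : p ^ k < p ^ 2 := by
    rw [← hk, ← horb]
    exact (Nat.card_le_card_of_injective _ Subtype.val_injective).trans_lt hn
  have hk1 : k ≠ 0 := by
    intro h0
    rw [h0, pow_zero, Subgroup.index_eq_one, hstab, Subgroup.subgroupOf_eq_top] at hk
    exact hPQ (Sylow.ext (P.is_maximal' Q.isPGroup' hk).symm)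
  have hk2 : k = 1 := by have := (Nat.pow_lt_pow_iff_right hp.out.one_lt).mp hlt; omega
  rw [hk2, pow_one, hstab] at hk
  have h := ((Q : Subgroup G).subgroupOf P).card_mul_index
  rw [hk, show Nat.card ↥((Q : Subgroup G).subgroupOf P) =
    Nat.card ↥((P : Subgroup G) ⊓ (Q : Subgroup G)) from ?_] at h
  · exact h
  · rw [← Subgroup.inf_subgroupOf_left]
    exact Nat.card_congr (Subgroup.subgroupOfEquivOfLe inf_le_left).toEquiv

theorem card_sylow (P Q : Sylow p G) :
    Nat.card ↥(P : Subgroup G) = Nat.card ↥(Q : Subgroup G) := by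
  rw [P.card_eq_multiplicity, Q.card_eq_multiplicity]

/-- A `p`-subgroup of index `p` is normalised. -/
theorem le_normalizer {P : Sylow p G} {D : Subgroup G} (hD : D ≤ P)
    (hc : Nat.card D * p = Nat.card ↥(P : Subgroup G)) :
    (P : Subgroup G) ≤ Subgroup.normalizer (D : Set G) := by
  have hidx : (D.subgroupOf (P : Subgroup G)).index = p := by
    have h := (D.subgroupOf (P : Subgroup G)).card_mul_index
    rw [Nat.card_congr (Subgroup.subgroupOfEquivOfLe hD).toEquiv, ← hc] at h
    exact Nat.eq_of_mul_eq_mul_left Nat.card_pos h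
  haveI : Nontrivial ↥(P : Subgroup G) := by
    rw [← Finite.one_lt_card_iff_nontrivial, ← hc]
    exact lt_mul_of_one_le_of_lt Nat.card_pos hp.out.one_lt
  haveI : (D.subgroupOf (P : Subgroup G)).Normal := by
    refine Subgroup.normal_of_index_eq_minFac_card ?_
    rw [hidx]
    obtain ⟨k, hk⟩ := P.isPGroup'.exists_card_eq
    have hk0 : k ≠ 0 := fun h0 => by
      have := Finite.one_lt_card (α := ↥(P : Subgroup G))
      rw [hk, h0] at this
      simp at this
    rw [hk, hp.out.pow_minFac hk0]
  exact Subgroup.normal_subgroupOf_iff_le_normalizer hD |>.mp inferInstance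

/-- The Sylow subgroups through `D`. -/
def line (D : Subgroup G) : Set (Sylow p G) := {Q | D ≤ (Q : Subgroup G)}

/-- A line has at least `p + 1` members. -/
theorem line_big (hn : Nat.card (Sylow p G) < p ^ 2) {P Q : Sylow p G} (hPQ : P ≠ Q) :
    p + 1 ≤ Nat.card (line (p := p) ((P : Subgroup G) ⊓ (Q : Subgroup G))) := by
  classical
  haveI := Fintype.ofFinite G
  set D := (P : Subgroup G) ⊓ (Q : Subgroup G) with hD
  have hN := le_normalizer (D := D) inf_le_left (card_inf_mul hn hPQ)
  have hsub : insert P (MulAction.orbit ↥(P : Subgroup G) Q) ⊆ line (p := p) D := by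
    rintro R (hRP | ⟨x, rfl⟩)
    · show D ≤ (R : Subgroup G)
      rw [hRP]
      exact (inf_le_left : (P : Subgroup G) ⊓ (Q : Subgroup G) ≤ (P : Subgroup G))
    · show D ≤ ((x : G) • Q : Sylow p G)
      rw [Sylow.coe_subgroup_smul]
      intro d hd
      rw [Basics.mem_conj_smul]
      have h := (Subgroup.mem_normalizer_iff.mp (inv_mem (hN x.2)) d).mp hd
      rw [inv_inv] at h
      exact h.2
  have hnot : P ∉ MulAction.orbit ↥(P : Subgroup G) Q := by
    rintro ⟨x, hx⟩
    have hfix : (x : G) • P = P :=
      Sylow.smul_eq_iff_mem_normalizer.mpr (Subgroup.le_normalizer x.2)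
    have hx' : (x : G) • Q = P := hx
    exact hPQ (MulAction.injective (x : G) (hfix.trans hx'.symm))
  have hsz : Nat.card (MulAction.orbit ↥(P : Subgroup G) Q) = p := by
    have h := card_inf_mul hn hPQ
    have h2 := MulAction.index_stabilizer ↥(P : Subgroup G) Q
    obtain ⟨k, hk⟩ := P.isPGroup'.index (MulAction.stabilizer ↥(P : Subgroup G) Q)
    have hlt : p ^ k < p ^ 2 := by
      rw [← hk, h2]
      exact (Nat.card_le_card_of_injective _ Subtype.val_injective).trans_lt hn
    have hk1 : k ≠ 0 := by
      intro h0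
      rw [h0, pow_zero, Subgroup.index_eq_one] at hk
      refine hPQ (Sylow.ext (P.is_maximal' Q.isPGroup' fun y hy => ?_).symm)
      have hy' : (⟨y, hy⟩ : ↥(P : Subgroup G)) ∈ MulAction.stabilizer ↥(P : Subgroup G) Q :=
        hk ▸ Subgroup.mem_top _
      have hxp : IsPGroup p (Subgroup.zpowers y) := P.isPGroup'.to_le (Subgroup.zpowers_le.mpr hy)
      have hyn : y ∈ Subgroup.normalizer ((Q : Subgroup G) : Set G) :=
        Sylow.smul_eq_iff_mem_normalizer.mp hy'
      have := Q.is_maximal' (Q.isPGroup'.to_sup_of_normal_left' hxp (Subgroup.zpowers_le.mpr hyn))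
        le_sup_left
      exact this.le (Subgroup.mem_sup_right (Subgroup.mem_zpowers _))
    have hk2 : k = 1 := by have := (Nat.pow_lt_pow_iff_right hp.out.one_lt).mp hlt; omega
    rw [hk2, pow_one, h2] at hk
    exact hk
  have := Set.ncard_le_ncard hsub (Set.toFinite _)
  rw [Set.ncard_insert_of_notMem hnot] at this
  rw [← Nat.card_coe_set_eq] at this
  rw [← Nat.card_coe_set_eq] at this
  omega

/-- All Sylow subgroups share the intersection of two of them. -/
theorem inf_le (hn : Nat.card (Sylow p G) < p ^ 2) {P Q : Sylow p G} (hPQ : P ≠ Q)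
    (R : Sylow p G) : (P : Subgroup G) ⊓ (Q : Subgroup G) ≤ (R : Subgroup G) := by
  classical
  by_contra hR
  haveI := Fintype.ofFinite G
  set D := (P : Subgroup G) ⊓ (Q : Subgroup G) with hD
  set c := Nat.card ↥(P : Subgroup G) with hc
  have hDc : Nat.card D * p = c := card_inf_mul hn hPQ
  let L : Finset (Sylow p G) := Finset.univ.filter fun S => D ≤ (S : Subgroup G)
  have hLcard : p + 1 ≤ L.card := by
    have h := line_big hn hPQ
    rw [line, Nat.card_coe_set_eq, Set.ncard_eq_toFinset_card', Set.toFinset_ofPred] at h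
    exact h
  have hmem : ∀ S ∈ L, D ≤ (S : Subgroup G) := fun S hS => (Finset.mem_filter.mp hS).2
  have hRne : ∀ S ∈ L, R ≠ S := fun S hS h => hR (h ▸ hmem S hS)
  set F := D ⊓ (R : Subgroup G) with hF
  let E : Sylow p G → Subgroup G := fun S => (R : Subgroup G) ⊓ (S : Subgroup G)
  have hEc : ∀ S ∈ L, Nat.card (E S) * p = c := fun S hS =>
    (card_inf_mul hn (hRne S hS)).trans (card_sylow R P)
  have hFE : ∀ S ∈ L, F ≤ E S := fun S hS => le_inf inf_le_right (inf_le_left.trans (hmem S hS))
  -- `F` has index `p ^ 2`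
  have hFc : Nat.card F * (p * p) = c := by
    have hP : P ∈ L := Finset.mem_filter.mpr ⟨Finset.mem_univ _, inf_le_left⟩
    have hDE : ¬ E P ≤ D := by
      intro h
      have := Subgroup.eq_of_le_of_card_ge h
        (le_of_eq (Nat.eq_of_mul_eq_mul_right hp.out.pos (hDc.trans (hEc P hP).symm)))
      exact hR (this ▸ inf_le_left)
    have hEN := le_normalizer (P := P) (D := D) inf_le_left hDc
    have hEP : E P ≤ (P : Subgroup G) := inf_le_right
    have hFeq : F = E P ⊓ D := by
      refine le_antisymm (le_inf (hFE P hP) inf_le_left) ?_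
      exact le_inf inf_le_right (inf_le_left.trans inf_le_left)
    -- index of `E P ⊓ D` in `E P`
    have hidx : ((D.subgroupOf (P : Subgroup G))).index = p := by
      have h := (D.subgroupOf (P : Subgroup G)).card_mul_index
      rw [Nat.card_congr (Subgroup.subgroupOfEquivOfLe (inf_le_left : D ≤ (P : Subgroup G))).toEquiv,
        ← hc, ← hDc] at h
      exact Nat.eq_of_mul_eq_mul_left Nat.card_pos h
    haveI hn' : (D.subgroupOf (P : Subgroup G)).Normal :=
      (Subgroup.normal_subgroupOf_iff_le_normalizer inf_le_left).mpr hEN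
    have hdvd : D.relIndex (E P) ∣ p := by
      rw [← hidx]
      show D.relIndex (E P) ∣ D.relIndex (P : Subgroup G)
      have : (D.subgroupOf (P : Subgroup G)).relIndex ((E P).subgroupOf (P : Subgroup G)) ∣
          (D.subgroupOf (P : Subgroup G)).index := Subgroup.relIndex_dvd_index_of_normal _ _
      rwa [Subgroup.relIndex_subgroupOf hEP] at this
    have hrel : D.relIndex (E P) = p := by
      rcases (Nat.dvd_prime hp.out).mp hdvd with h | h
      · exact absurd (Subgroup.relIndex_eq_one.mp h) hDE
      · exact h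
    have h := (D.subgroupOf (E P)).card_mul_index
    rw [show (D.subgroupOf (E P)).index = p from hrel, ← Subgroup.inf_subgroupOf_left,
      Nat.card_congr (Subgroup.subgroupOfEquivOfLe (inf_le_left : E P ⊓ D ≤ E P)).toEquiv,
      ← hFeq] at h
    rw [← mul_assoc, h, hEc P hP]
  -- distinct members give distinct lines through `R`
  have hinj : ∀ S ∈ L, ∀ T ∈ L, S ≠ T → E S ⊓ E T = F := by
    intro S hS T hT hST
    refine le_antisymm ?_ (le_inf (hFE S hS) (hFE T hT))
    have hDST : (S : Subgroup G) ⊓ (T : Subgroup G) = D := (Subgroup.eq_of_le_of_card_ge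
      (le_inf (hmem S hS) (hmem T hT))
      (le_of_eq (Nat.eq_of_mul_eq_mul_right hp.out.pos
        (((card_inf_mul hn hST).trans (card_sylow S P)).trans hDc.symm)))).symm
    intro x hx
    exact ⟨hDST ▸ ⟨hx.1.2, hx.2.2⟩, hx.1.1⟩
  have hEne : ∀ S ∈ L, ∀ T ∈ L, E S = E T → S = T := by
    intro S hS T hT he
    by_contra hST
    have h := hinj S hS T hT hST
    rw [he, inf_idem] at h
    have h1 := hEc T hT
    rw [h] at h1
    have : Nat.card F * p * 1 = Nat.card F * p * p := by rw [mul_one, mul_assoc, hFc, h1]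
    exact hp.out.ne_one (Nat.eq_of_mul_eq_mul_left (Nat.mul_pos Nat.card_pos hp.out.pos) this).symm
  -- so the line has at most `p + 1` members
  set f := Nat.card F with hfdef
  let Fs : Finset G := Finset.univ.filter fun x => x ∈ F
  have hFs : Fs.card = f := by
    rw [hfdef, Nat.card_eq_fintype_card, Fintype.card_subtype]
  let A : Sylow p G → Finset G := fun S => (Finset.univ.filter fun x => x ∈ E S) \ Fs
  have hA : ∀ S ∈ L, A S ⊆ (Finset.univ.filter fun x => x ∈ (R : Subgroup G)) \ Fs := by
    intro S _ x hx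
    simp only [A, Finset.mem_sdiff, Finset.mem_filter, Finset.mem_univ, true_and] at hx ⊢
    exact ⟨hx.1.1, hx.2⟩
  have hAc : ∀ S ∈ L, (A S).card + f = f * p := by
    intro S hS
    have hsub : Fs ⊆ Finset.univ.filter fun x => x ∈ E S := by
      intro x hx
      simp only [Fs, Finset.mem_filter, Finset.mem_univ, true_and] at hx ⊢
      exact hFE S hS hx
    rw [show (A S).card = _ from Finset.card_sdiff_of_subset hsub, hFs,
      Nat.sub_add_cancel (hFs ▸ Finset.card_le_card hsub)]
    rw [← Fintype.card_subtype, ← Nat.card_eq_fintype_card]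
    refine Nat.eq_of_mul_eq_mul_right hp.out.pos ?_
    rw [mul_assoc, hFc]
    exact hEc S hS
  have hdisj : (L : Set (Sylow p G)).PairwiseDisjoint A := by
    intro S hS T hT hST
    rw [Function.onFun, Finset.disjoint_left]
    intro x hxS hxT
    simp only [A, Fs, Finset.mem_sdiff, Finset.mem_filter, Finset.mem_univ, true_and] at hxS hxT
    exact hxS.2 (hinj S hS T hT hST ▸ ⟨hxS.1, hxT.1⟩)
  have hLle : L.card ≤ p + 1 := by
    have hsum : ∑ S ∈ L, (A S).card + f ≤ f * (p * p) := by
      rw [← Finset.card_biUnion hdisj, hFc]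
      calc (L.biUnion A).card + f
          ≤ ((Finset.univ.filter fun x => x ∈ (R : Subgroup G)) \ Fs).card + f :=
            Nat.add_le_add_right (Finset.card_le_card (Finset.biUnion_subset.mpr hA)) _
        _ = c := by
          have hsub : Fs ⊆ Finset.univ.filter fun x => x ∈ (R : Subgroup G) := by
            intro x hx
            simp only [Fs, Finset.mem_filter, Finset.mem_univ, true_and] at hx ⊢
            exact hx.2
          rw [Finset.card_sdiff_of_subset hsub, hFs,
            Nat.sub_add_cancel (hFs ▸ Finset.card_le_card hsub), ← Fintype.card_subtype,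
            ← Nat.card_eq_fintype_card, hc]
          exact card_sylow R P
    have hconst : ∑ S ∈ L, (A S).card + L.card * f = L.card * (f * p) := by
      have : ∑ S ∈ L, ((A S).card + f) = L.card * (f * p) := by
        rw [Finset.sum_congr rfl hAc, Finset.sum_const, smul_eq_mul]
      rwa [Finset.sum_add_distrib, Finset.sum_const, smul_eq_mul] at this
    have hf0 : 0 < f := Nat.card_pos
    by_contra hlt
    have h2 : f * (L.card * p) + f ≤ f * (p * p) + f * L.card := by
      nlinarith only [hsum, hconst]
    rw [← Nat.mul_succ, ← mul_add] at h2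
    have h3 := Nat.le_of_mul_le_mul_left h2 hf0
    have hp2 := hp.out.two_le
    have hge : p + 2 ≤ L.card := by omega
    obtain ⟨w, hw⟩ := Nat.exists_eq_add_of_le hge
    rw [hw] at h3
    nlinarith only [h3, hp2, Nat.mul_le_mul_left w hp2]
  -- the lines through `R` are too many
  let B : Sylow p G → Finset (Sylow p G) := fun S =>
    (Finset.univ.filter fun T : Sylow p G => E S ≤ (T : Subgroup G)).erase R
  have hB : ∀ S ∈ L, p ≤ (B S).card := by
    intro S hS
    have h := line_big hn (hRne S hS)
    rw [line, Nat.card_coe_set_eq, Set.ncard_eq_toFinset_card', Set.toFinset_ofPred] at h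
    have h2 : R ∈ Finset.univ.filter fun T : Sylow p G => E S ≤ (T : Subgroup G) :=
      Finset.mem_filter.mpr ⟨Finset.mem_univ _, inf_le_left⟩
    simp only [B, Finset.card_erase_of_mem h2]
    exact Nat.le_sub_one_of_lt h
  have hBdisj : (L : Set (Sylow p G)).PairwiseDisjoint B := by
    intro S hS T hT hST
    rw [Function.onFun, Finset.disjoint_left]
    intro U hUS hUT
    simp only [B, Finset.mem_erase, Finset.mem_filter, Finset.mem_univ, true_and] at hUS hUT
    have key : ∀ V ∈ L, E V ≤ (U : Subgroup G) → E V = (R : Subgroup G) ⊓ (U : Subgroup G) :=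
      fun V hV h => Subgroup.eq_of_le_of_card_ge (le_inf inf_le_left h)
        (le_of_eq (Nat.eq_of_mul_eq_mul_right hp.out.pos
          (((card_inf_mul hn (Ne.symm hUS.1)).trans (card_sylow R P)).trans (hEc V hV).symm)))
    exact hST (hEne S hS T hT ((key S hS hUS.2).trans (key T hT hUT.2).symm))
  have htot : (L.biUnion B).card + 1 ≤ Nat.card (Sylow p G) := by
    rw [Nat.card_eq_fintype_card]
    have hnot : R ∉ L.biUnion B := by simp [B]
    rw [← Finset.card_insert_of_notMem hnot]
    exact Finset.card_le_univ _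
  rw [Finset.card_biUnion hBdisj] at htot
  have hge : L.card * p ≤ ∑ S ∈ L, (B S).card := by
    simpa [Finset.card_nsmul_le_sum] using L.card_nsmul_le_sum (fun S => (B S).card) p hB
  nlinarith

/-- If there are fewer than `p ^ 2` Sylow subgroups, the order of `G / O_p(G)` has no factor
`p ^ 2`. -/
theorem not_sq_dvd_quotient_pCore (hn : Nat.card (Sylow p G) < p ^ 2) :
    ¬ p ^ 2 ∣ Nat.card (G ⧸ Cfsg.pCore p G) := by
  obtain ⟨P⟩ : Nonempty (Sylow p G) := Sylow.nonempty
  have key : ∃ D : Subgroup G, D ≤ Cfsg.pCore p G ∧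
      Nat.card ↥(P : Subgroup G) ∣ Nat.card D * p := by
    by_cases h : ∀ Q : Sylow p G, Q = P
    · refine ⟨P, ?_, dvd_mul_right _ _⟩
      rw [Basics.pCore_eq_iInf_sylow]
      exact le_iInf fun Q => by rw [h Q]
    · push Not at h
      obtain ⟨Q, hQ⟩ := h
      refine ⟨(P : Subgroup G) ⊓ (Q : Subgroup G), ?_, (card_inf_mul hn hQ.symm).symm.dvd⟩
      rw [Basics.pCore_eq_iInf_sylow]
      exact le_iInf (inf_le hn hQ.symm)
  obtain ⟨D, hD, hPD⟩ := key
  intro hdvd
  have h1 : Nat.card D * p ^ 2 ∣ Nat.card G := by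
    rw [(Cfsg.pCore p G).card_eq_card_quotient_mul_card_subgroup, mul_comm _ (Nat.card _)]
    exact mul_dvd_mul (Subgroup.card_dvd_of_le hD) hdvd
  have h2 : Nat.card ↥(P : Subgroup G) * p ∣ Nat.card G := by
    refine (mul_dvd_mul_right hPD p).trans ?_
    rwa [mul_assoc, ← pow_two]
  rw [← Subgroup.card_mul_index (P : Subgroup G)] at h2
  exact P.not_dvd_index ((Nat.mul_dvd_mul_iff_left Nat.card_pos).mp h2)

end Cfsg.Agent.Blocks.SylowLtSquare
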