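import Mathlib
import Cfsg.Agent.Lib.Basics.Cores
import Cfsg.Agent.Lib.Basics.Tools
import Cfsg.Agent.Lib.OddLocal.PAction
import Cfsg.Agent.Lib.SylowNumbers.Quotient

/-!
The factor of a Sylow number that comes from a normal subgroup of order prime to `p`: it is a
product of prime powers congruent to `1` modulo `p`, so below `p ^ 2` it is one prime power.
-/

set_option autoImplicit false

namespace Cfsg.Agent.Blocks.SylowLtSquare

universe u

variable {G : Type u} [Group G] [Finite G] {p : ℕ} [hp : Fact p.Prime]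

/-- Dividing out the `p`-core keeps the Sylow number. -/
theorem card_sylow_quotient_pCore :
    Nat.card (Sylow p (G ⧸ Cfsg.pCore p G)) = Nat.card (Sylow p G) := by
  obtain ⟨P⟩ : Nonempty (Sylow p G) := Sylow.nonempty
  have h := SylowNumbers.card_sylow_mul_card_inf (QuotientGroup.mk' (Cfsg.pCore p G))
    (QuotientGroup.mk'_surjective _) P
  rw [QuotientGroup.ker_mk', inf_eq_left.mpr ((Basics.pCore_le_sylow p P).trans
    Subgroup.le_normalizer)] at h
  exact (Nat.eq_of_mul_eq_mul_right Nat.card_pos h).symm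

/-- The factor of `n_p` from a normal `p'`-subgroup: modulo `p` every prime-power part is `1`. -/
theorem exists_factor (K : Subgroup G) [K.Normal] (hK : ¬ p ∣ Nat.card K) :
    ∃ m : ℕ, Nat.card (Sylow p G) = Nat.card (Sylow p (G ⧸ K)) * m ∧ 0 < m ∧
      ∀ q : ℕ, q.Prime → ordProj[q] m % p = 1 := by
  classical
  obtain ⟨P⟩ : Nonempty (Sylow p G) := Sylow.nonempty
  set C := K ⊓ Subgroup.centralizer ((P : Subgroup G) : Set G) with hC
  have hKN : K ⊓ Subgroup.normalizer ((P : Subgroup G) : Set G) = C := by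
    refine le_antisymm (fun x hx => ⟨hx.1, Subgroup.mem_centralizer_iff.mpr fun a ha => ?_⟩)
      (inf_le_inf_left _ (Subgroup.centralizer_le_normalizer _))
    have h1 : x * a * x⁻¹ * a⁻¹ ∈ (P : Subgroup G) :=
      mul_mem ((Subgroup.mem_normalizer_iff.mp hx.2 a).mp ha) (inv_mem ha)
    have h2 : x * a * x⁻¹ * a⁻¹ ∈ K := by
      rw [show x * a * x⁻¹ * a⁻¹ = x * (a * x⁻¹ * a⁻¹) by group]
      exact mul_mem hx.1 ((inferInstance : K.Normal).conj_mem _ (inv_mem hx.1) a)
    obtain ⟨k, hk⟩ := P.isPGroup'.exists_card_eq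
    have hdisj : (P : Subgroup G) ⊓ K = ⊥ := Subgroup.inf_eq_bot_of_coprime
      (hk ▸ (hp.out.coprime_iff_not_dvd.mpr hK).pow_left k)
    have h3 : x * a * x⁻¹ * a⁻¹ = 1 := by
      rw [← Subgroup.mem_bot, ← hdisj]
      exact ⟨h1, h2⟩
    rw [mul_inv_eq_one, mul_inv_eq_iff_eq_mul] at h3
    exact h3.symm
  have h := SylowNumbers.card_sylow_mul_card_inf (QuotientGroup.mk' K)
    (QuotientGroup.mk'_surjective K) P
  rw [QuotientGroup.ker_mk', hKN] at h
  obtain ⟨m, hm⟩ : Nat.card C ∣ Nat.card K := Subgroup.card_dvd_of_le inf_le_left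
  have hm0 : 0 < m := Nat.pos_of_ne_zero fun h0 => by
    rw [h0, mul_zero] at hm
    exact Nat.card_pos.ne' hm
  refine ⟨m, ?_, hm0, fun q hq => ?_⟩
  · rw [hm, mul_comm (Nat.card C) m, ← mul_assoc] at h
    exact Nat.eq_of_mul_eq_mul_right Nat.card_pos h
  haveI := Fact.mk hq
  obtain ⟨T⟩ : Nonempty (Sylow q C) := Sylow.nonempty
  set Y := (T : Subgroup C).map C.subtype with hY
  have hYC : Y ≤ C := Subgroup.map_subtype_le _
  have hYcard : Nat.card Y = q ^ (Nat.card C).factorization q := by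
    rw [hY, Subgroup.card_map_of_injective C.subtype_injective, T.card_eq_multiplicity]
  have hAY : (P : Subgroup G) ≤ Subgroup.normalizer (Y : Set G) := by
    intro a ha
    rw [Subgroup.mem_normalizer_iff]
    intro y
    constructor
    · intro hy
      rwa [← (Subgroup.mem_centralizer_iff.mp (hYC hy).2 a ha).symm, mul_inv_cancel_right]
    · intro hy
      have hc := Subgroup.mem_centralizer_iff.mp (hYC hy).2 a ha
      have : a * (a * y * a⁻¹) = a * y := by rw [hc]; group
      exact (mul_left_cancel this) ▸ hy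
  obtain ⟨S, hYS, hSK, hSq, hAS, hSidx⟩ := OddLocal.exists_invariant_sylow_ge (q := q) P.isPGroup'
    (by rw [Subgroup.normalizer_eq_top]; exact le_top : (P : Subgroup G) ≤ Subgroup.normalizer (K : Set G))
    hK (hYC.trans inf_le_left) (hY ▸ T.isPGroup'.map _) hAY
  have hScard : Nat.card S = q ^ (Nat.card K).factorization q := by
    obtain ⟨k, hk⟩ := hSq.exists_card_eq
    have hmul : Nat.card S * S.relIndex K = Nat.card K := by
      rw [← Subgroup.relIndex_bot_left, ← Subgroup.relIndex_bot_left K]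
      exact Subgroup.relIndex_mul_relIndex _ _ _ bot_le hSK
    rw [hk, ← hmul, hk, Nat.factorization_mul (pow_ne_zero _ hq.pos.ne') (fun h0 => hSidx (by rw [h0]; exact dvd_zero q))]
    simp [hq.factorization_self, Nat.factorization_eq_zero_of_not_dvd hSidx]
  letI : MulAction (P : Subgroup G) S :=
    { smul := fun a t => ⟨a * t * (a : G)⁻¹, (Subgroup.mem_normalizer_iff.mp (hAS a.2) t).mp t.2⟩
      one_smul := fun t => Subtype.ext (show (1 : G) * t * (1 : G)⁻¹ = t by simp)
      mul_smul := fun a b t => Subtype.ext (show ((a : G) * b) * t * ((a : G) * b)⁻¹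
        = (a : G) * ((b : G) * t * (b : G)⁻¹) * (a : G)⁻¹ by group) }
  have hmod := P.isPGroup'.card_modEq_card_fixedPoints S
  have hfix : Nat.card (MulAction.fixedPoints (P : Subgroup G) S) =
      Nat.card ↥(S ⊓ Subgroup.centralizer ((P : Subgroup G) : Set G)) := by
    refine Nat.card_congr
      { toFun := fun t => ⟨(t : S), (t : S).2, Subgroup.mem_centralizer_iff.mpr fun a ha =>
          mul_inv_eq_iff_eq_mul.mp (congrArg Subtype.val (t.2 ⟨a, ha⟩))⟩
        invFun := fun t => ⟨⟨t, t.2.1⟩, fun a => Subtype.ext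
          (mul_inv_eq_iff_eq_mul.mpr (Subgroup.mem_centralizer_iff.mp t.2.2 a a.2))⟩
        left_inv := fun t => rfl
        right_inv := fun t => rfl }
  have hinf : Nat.card ↥(S ⊓ Subgroup.centralizer ((P : Subgroup G) : Set G)) = Nat.card Y := by
    refine le_antisymm ?_ (Nat.le_of_dvd Nat.card_pos
      (Subgroup.card_dvd_of_le (le_inf hYS (hYC.trans inf_le_right))))
    set X := S ⊓ Subgroup.centralizer ((P : Subgroup G) : Set G)
    obtain ⟨k, hk⟩ := (hSq.to_le (inf_le_left : X ≤ S)).exists_card_eq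
    have hdvd : q ^ k ∣ Nat.card C :=
      hk ▸ Subgroup.card_dvd_of_le (le_inf (inf_le_left.trans hSK) inf_le_right)
    rw [hk, hYcard]
    exact Nat.pow_le_pow_right hq.pos
      ((hq.pow_dvd_iff_le_factorization Nat.card_pos.ne').mp hdvd)
  rw [hfix, hinf, hYcard, hScard, hm, Nat.factorization_mul Nat.card_pos.ne' hm0.ne',
    Finsupp.add_apply, pow_add] at hmod
  have hcop : Nat.gcd p (q ^ (Nat.card C).factorization q) = 1 := by
    by_cases hz : (Nat.card C).factorization q = 0
    · simp [hz]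
    · refine Nat.Coprime.pow_right _ ((Nat.coprime_primes hp.out hq).mpr ?_)
      rintro rfl
      exact hK ((Nat.dvd_of_factorization_pos hz).trans (Subgroup.card_dvd_of_le inf_le_left))
  have h1 : q ^ m.factorization q ≡ 1 [MOD p] :=
    Nat.ModEq.cancel_left_of_coprime hcop (by rw [mul_one]; exact hmod)
  rw [Nat.ModEq, Nat.mod_eq_of_lt hp.out.one_lt] at h1
  exact h1

/-- Below `p ^ 2` such a factor is a prime power. -/
theorem factor_primePow {m : ℕ} (hm : 0 < m) (hlt : m < p ^ 2)
    (h : ∀ q : ℕ, q.Prime → ordProj[q] m % p = 1) : ∃ q k : ℕ, q.Prime ∧ m = q ^ k := by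
  by_cases h1 : m = 1
  · exact ⟨2, 0, Nat.prime_two, h1⟩
  have hq := Nat.minFac_prime h1
  refine ⟨m.minFac, m.factorization m.minFac, hq, ?_⟩
  by_contra hne
  have hrest : m / ordProj[m.minFac] m ≠ 1 := fun h' => hne (by
    have := Nat.ordProj_mul_ordCompl_eq_self m m.minFac
    rw [h', mul_one] at this
    exact this.symm)
  obtain ⟨r, hr, hrd⟩ := Nat.exists_prime_and_dvd hrest
  have hrm : r ∣ m := hrd.trans (Nat.ordCompl_dvd m _)
  have hrq : r ≠ m.minFac := fun he => Nat.not_dvd_ordCompl hq hm.ne' (he ▸ hrd)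
  have big : ∀ s : ℕ, s.Prime → s ∣ m → p + 1 ≤ ordProj[s] m := fun s hs hsd => by
    have hgt : 1 < ordProj[s] m :=
      Nat.one_lt_pow (hs.factorization_pos_of_dvd hm.ne' hsd).ne' hs.one_lt
    by_contra hlt'
    rcases Nat.lt_or_ge (ordProj[s] m) p with h' | h'
    · have := h s hs
      rw [Nat.mod_eq_of_lt h'] at this
      omega
    · have := h s hs
      rw [show ordProj[s] m = p by omega, Nat.mod_self] at this
      omega
  have hdvd : ordProj[m.minFac] m * ordProj[r] m ∣ m :=
    (Nat.Coprime.pow _ _ ((Nat.coprime_primes hq hr).mpr (Ne.symm hrq))).mul_dvd_of_dvd_of_dvd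
      (Nat.ordProj_dvd m _) (Nat.ordProj_dvd m _)
  have := Nat.le_of_dvd hm hdvd
  have := Nat.mul_le_mul (big _ hq (Nat.minFac_dvd m)) (big r hr hrm)
  nlinarith

end Cfsg.Agent.Blocks.SylowLtSquare
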