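import Mathlib
import Cfsg.Agent.Lib.Basics.Cores
import Cfsg.Agent.Lib.Blocks.SylowLtSquare.Inter
import Cfsg.Agent.Lib.Blocks.SylowLtSquare.Split
import Cfsg.Agent.Lib.SL2.DicksonArith
import Cfsg.Agent.Lib.SL2.DicksonSmall
import Cfsg.Agent.Lib.SylowNumbers.PrimePower
import Cfsg.Agent.Lib.Fusion.PSolvableExt
import Cfsg.Agent.Lib.Coprime23.PSolv
import Cfsg.Agent.S4700

/-!
With fewer than `p ^ 2` Sylow `p`-subgroups, `p`-solvability is the same as having a prime power of
them, outside the Mersenne primes above `3`.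
-/

set_option autoImplicit false

open scoped commutatorElement

namespace Cfsg.Agent.Blocks.SylowLtSquare

universe u

variable {p : ℕ} [hp : Fact p.Prime]

/-- A prime power dividing `(a - 1)(a + 1) / 2` divides one of the two factors. -/
theorem primePow_dvd_either {a q k : ℕ} (hq : q.Prime) (ha : Odd a) (ha1 : 1 < a)
    (h : q ^ k * 2 ∣ (a - 1) * (a + 1)) : q ^ k ∣ a - 1 ∨ q ^ k ∣ a + 1 := by
  obtain ⟨b, rfl⟩ := ha
  rw [show (2 * b + 1 - 1) * (2 * b + 1 + 1) = (2 * b * (b + 1)) * 2 by rw [Nat.add_sub_cancel]; ring] at h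
  have h2 := (Nat.mul_dvd_mul_iff_right two_pos).mp h
  rw [Nat.add_sub_cancel, show 2 * b + 1 + 1 = 2 * (b + 1) by ring]
  have hc : Nat.Coprime b (b + 1) := by simp
  rcases Nat.eq_zero_or_pos k with rfl | hk
  · exact Or.inl (by simp)
  by_cases hqb : q ∣ b
  · left
    have hcop : (q ^ k).Coprime (b + 1) :=
      Nat.Coprime.pow_left k (hq.coprime_iff_not_dvd.mpr fun h' =>
        hq.ne_one (Nat.eq_one_of_dvd_coprimes hc hqb h'))
    exact hcop.dvd_of_dvd_mul_right h2
  · right
    have hcop : (q ^ k).Coprime b := Nat.Coprime.pow_left k (hq.coprime_iff_not_dvd.mpr hqb)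
    refine hcop.dvd_of_dvd_mul_left ?_
    rwa [show 2 * b * (b + 1) = b * (2 * (b + 1)) by ring] at h2

/-- The number `(up + 1)(p + u + 1) / (u + 1)` is not a prime power below `p ^ 2`. -/
theorem not_primePow_of_third {n r h u q k : ℕ} (hq : q.Prime) (hn : n = 1 + r * p)
    (hlt : n < p ^ 2) (hh : 0 < h) (hu : 0 < u)
    (he : r * (u + 1) = h * u * p + u ^ 2 + u + h) (hnq : n = q ^ k) : False := by
  have hp2 := hp.out.two_le
  have hr : r < p := by nlinarith
  have hhu : h * u < u + 1 := by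
    by_contra hc
    push Not at hc
    nlinarith [Nat.mul_le_mul_right p hc, Nat.mul_lt_mul_of_pos_right hr (Nat.succ_pos u)]
  have h1 : h = 1 := by
    by_contra hne
    have h2 : 2 * u ≤ h * u := Nat.mul_le_mul_right u (by omega)
    have : u = 0 := by omega
    omega
  subst h1
  rw [one_mul] at he
  have hur : u ≤ r := by nlinarith
  obtain ⟨a, rfl⟩ : ∃ a, r = u + a := ⟨r - u, by omega⟩
  have hau : a * (u + 1) = u * p + 1 := by nlinarith
  have hnn : n = a * (p + u + 1) := by
    apply Nat.eq_of_mul_eq_mul_right (Nat.succ_pos u)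
    rw [hn]
    show (1 + (u + a) * p) * (u + 1) = a * (p + u + 1) * (u + 1)
    have e1 : (1 + (u + a) * p) * (u + 1) = u + 1 + (u * (u + 1) + a * (u + 1)) * p := by ring
    have e2 : a * (p + u + 1) * (u + 1) = a * (u + 1) * (p + u + 1) := by ring
    rw [e1, e2, hau]
    ring
  have hgap : u ^ 2 + u + 1 < p := by nlinarith
  have hap : a < p := by omega
  obtain ⟨i, -, hi⟩ := (Nat.dvd_prime_pow hq).mp (hnq ▸ hnn ▸ dvd_mul_right a _ : a ∣ q ^ k)
  obtain ⟨j, -, hj⟩ := (Nat.dvd_prime_pow hq).mp (hnq ▸ hnn ▸ dvd_mul_left _ a : p + u + 1 ∣ q ^ k)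
  have hij : i ≤ j := (Nat.pow_le_pow_iff_right hq.one_lt).mp (by omega)
  have hdvd : a ∣ p + u + 1 := by rw [hi, hj]; exact pow_dvd_pow q hij
  -- `a` divides `u ^ 2 + u - 1`, but is larger
  have hadd : a ∣ u * (p + u + 1) := hdvd.mul_left u
  have hsub : a ∣ u * p + 1 := ⟨u + 1, hau.symm⟩
  have hd : a ∣ u ^ 2 + u - 1 := by
    have h2 := Nat.dvd_sub hadd hsub
    rwa [show u * (p + u + 1) - (u * p + 1) = u ^ 2 + u - 1 by
      rw [show u * (p + u + 1) = u * p + (u ^ 2 + u) by ring]; omega] at h2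
  have hpos : 0 < u ^ 2 + u - 1 := by nlinarith [Nat.sub_add_cancel (show 1 ≤ u ^ 2 + u by nlinarith)]
  have hale := Nat.le_of_dvd hpos hd
  -- `p ≡ 1` modulo `u + 1`
  have hp1 : (u + 1) ∣ p - 1 := by
    have h2 : (u + 1) ∣ u * p + 1 := ⟨a, by rw [← hau]; ring⟩
    have h3 : (u + 1) ∣ (u + 1) * p := dvd_mul_right _ _
    have h4 := Nat.dvd_sub h3 h2
    rwa [show (u + 1) * p - (u * p + 1) = p - 1 by
      rw [show (u + 1) * p = u * p + p by ring]; omega] at h4
  obtain ⟨t, ht⟩ := hp1
  have htb : u + 1 ≤ t := by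
    by_contra hc
    push Not at hc
    have := Nat.mul_le_mul_left (u + 1) (show t ≤ u by omega)
    nlinarith [Nat.sub_add_cancel (show 1 ≤ p by omega)]
  have := Nat.mul_le_mul_left (u + 1) htb
  have := Nat.sub_add_cancel (show 1 ≤ p by omega)
  have := Nat.sub_add_cancel (show 1 ≤ u ^ 2 + u by nlinarith)
  nlinarith

variable {M : Type u} [Group M] [Finite M]

theorem card_sylow_mul_dvd (hdvd : p ∣ Nat.card M) :
    Nat.card (Sylow p M) * p ∣ Nat.card M := by
  obtain ⟨P⟩ : Nonempty (Sylow p M) := Sylow.nonempty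
  rw [P.card_eq_index_normalizer, ← (Subgroup.normalizer ((P : Subgroup M) : Set M)).index_mul_card]
  exact mul_dvd_mul_left _ ((P.dvd_card_of_dvd_card hdvd).trans
    (Subgroup.card_dvd_of_le Subgroup.le_normalizer))

/-- A perfect group with Sylow subgroups of order `p` and trivial `p'`-core has no prime power
`n_p < p ^ 2`, unless `p` is a Mersenne prime above `3`. -/
theorem perfect_not_primePow (hperf : commutator M = ⊤) (P : Sylow p M) (hP : Nat.card P = p)
    (hcore : Cfsg.pPrimeCore p M = ⊥) (hmer : ¬ (3 < p ∧ ∃ k : ℕ, p + 1 = 2 ^ k))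
    (hlt : Nat.card (Sylow p M) < p ^ 2) {q k : ℕ} (hq : q.Prime)
    (hnq : Nat.card (Sylow p M) = q ^ k) : False := by
  letI := Fintype.ofFinite M
  have hdvd : p ∣ Nat.card M := hP ▸ Subgroup.card_subgroup_dvd_card (P : Subgroup M)
  have hmod : Nat.card (Sylow p M) % p = 1 := by
    have h := card_sylow_modEq_one p M
    rwa [Nat.ModEq, Nat.mod_eq_of_lt hp.out.one_lt] at h
  have hne : Nat.card (Sylow p M) ≠ 1 := fun h => by
    haveI : Subsingleton (Sylow p M) := (Nat.card_eq_one_iff_unique.mp h).1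
    exact Blocks.FewSylow.not_normal_of_perfect hperf hdvd P hP P.normal_of_subsingleton
  have hle : p + 1 ≤ Nat.card (Sylow p M) := by
    by_contra hc
    push Not at hc
    rcases Nat.lt_or_ge (Nat.card (Sylow p M)) p with h | h
    · rw [Nat.mod_eq_of_lt h] at hmod
      exact hne hmod
    · rw [show Nat.card (Sylow p M) = p by omega, Nat.mod_self] at hmod
      omega
  have hn := card_sylow_mul_dvd (M := M) hdvd
  have hQ : Nat.card (M ⧸ Cfsg.pPrimeCore p M) = Nat.card M := by
    rw [← Subgroup.index_eq_card, hcore, Subgroup.index_bot]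
  rcases Cfsg.Agent.S4700.result hperf p P hP (Nat.card (Sylow p M) / p)
      (by have := Nat.div_add_mod' (Nat.card (Sylow p M)) p; omega) with
    ⟨F, iF, tF, hF, h3, ⟨e⟩⟩ | ⟨m, F, iF, tF, hF, hpm, h3, ⟨e⟩⟩ | ⟨h, u, hh, hu, he⟩
  · have hodd : Odd (Fintype.card F) := hF ▸ hp.out.odd_of_ne_two (by omega)
    have hc := SL2.card_psl_odd (F := F) hodd
    rw [← Nat.card_congr e.toEquiv, hQ, hF] at hc
    have h2 : q ^ k * 2 * p ∣ (p - 1) * (p + 1) * p := by
      rw [← hnq, mul_comm ((p - 1) * (p + 1)), ← hc,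
        show Nat.card (Sylow p M) * 2 * p = 2 * (Nat.card (Sylow p M) * p) by ring]
      exact mul_dvd_mul_left 2 hn
    have h4 := (Nat.mul_dvd_mul_iff_right hp.out.pos).mp h2
    rcases primePow_dvd_either hq (hF ▸ hodd) (by omega) h4 with h5 | h5 <;>
      [skip; skip] <;> have h6 := Nat.le_of_dvd (by omega) h5
    · omega
    · have hq2 : q = 2 := by
        have hev : 2 ∣ q ^ k := by
          obtain ⟨b, hb⟩ := hF ▸ hodd
          exact ⟨b + 1, by omega⟩
        exact ((Nat.prime_dvd_prime_iff_eq Nat.prime_two hq).mp (Nat.prime_two.dvd_of_dvd_pow hev)).symm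
      exact hmer ⟨h3, k, by rw [← hq2]; omega⟩
  · have hc := SL2.card_G (F := F)
    rw [← Nat.card_congr e.toEquiv, hQ, hF] at hc
    have h2 : q ^ k * p ∣ (p - 1) * (p - 2) * p := by
      rw [← hnq, show (p - 1) * (p - 2) * p = 2 ^ m * ((2 ^ m - 1) * (2 ^ m + 1)) by
        rw [show p - 1 = 2 ^ m by omega, show p - 2 = 2 ^ m - 1 by omega, ← hpm, mul_assoc], ← hc]
      exact hn
    have h4 := (Nat.mul_dvd_mul_iff_right hp.out.pos).mp h2
    have hcop : (p - 1).Coprime (p - 2) := by
      rw [show p - 1 = p - 2 + 1 by omega]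
      simp
    have h5 : q ^ k ∣ p - 1 ∨ q ^ k ∣ p - 2 := by
      rcases Nat.eq_zero_or_pos k with hk0 | hk0
      · exact Or.inl (by simp [hk0])
      by_cases hqd : q ∣ p - 1
      · refine Or.inl ((Nat.Coprime.pow_left k (hq.coprime_iff_not_dvd.mpr fun h' => ?_)).dvd_of_dvd_mul_right h4)
        exact hq.ne_one (Nat.eq_one_of_dvd_coprimes hcop hqd h')
      · exact Or.inr ((Nat.Coprime.pow_left k (hq.coprime_iff_not_dvd.mpr hqd)).dvd_of_dvd_mul_left h4)
    rcases h5 with h5 | h5 <;> have h6 := Nat.le_of_dvd (by omega) h5 <;> omega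
  · exact not_primePow_of_third hq rfl (by
      have := Nat.div_add_mod' (Nat.card (Sylow p M)) p
      omega) hh hu he (k := k) (by
      have := Nat.div_add_mod' (Nat.card (Sylow p M)) p
      rw [← hnq]
      omega)

variable {X : Type u} [Group X] [Finite X]

theorem card_sylow_eq_one_of_isPSolvable (hcore : Cfsg.pPrimeCore p X = ⊥)
    (hsq : ¬ p ^ 2 ∣ Nat.card X) (h : Cfsg.IsPSolvable p X) : Nat.card (Sylow p X) = 1 := by
  rcases subsingleton_or_nontrivial X with hs | hs
  · obtain ⟨P⟩ : Nonempty (Sylow p X) := Sylow.nonempty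
    haveI : (P : Subgroup X).Normal := ⟨fun a ha g => by rwa [Subsingleton.elim (g * a * g⁻¹) a]⟩
    rw [P.card_eq_index_normalizer]
    show (Subgroup.normalizer ((P : Subgroup X) : Set X)).index = 1
    rw [Subgroup.normalizer_eq_top, Subgroup.index_top]
  rcases Coprime23.exists_core_ne_bot h with hc | hc
  swap
  · exact absurd hcore hc
  obtain ⟨P⟩ : Nonempty (Sylow p X) := Sylow.nonempty
  have hPC : (P : Subgroup X) = Cfsg.pCore p X := by
    refine (Subgroup.eq_of_le_of_card_ge (Basics.pCore_le_sylow p P) ?_).symm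
    obtain ⟨a, ha⟩ := P.isPGroup'.exists_card_eq
    obtain ⟨b, hb⟩ := (Basics.pCore_isPGroup (G := X) p).exists_card_eq
    have h1 : 1 < Nat.card (Cfsg.pCore p X) := (Subgroup.one_lt_card_iff_ne_bot _).mpr hc
    rw [ha, hb]
    refine Nat.pow_le_pow_right hp.out.pos ?_
    by_contra hlt
    have hb0 : b ≠ 0 := fun h0 => by rw [hb, h0] at h1; simp at h1
    exact hsq ((pow_dvd_pow p (show 2 ≤ a by omega)).trans (ha ▸ Subgroup.card_subgroup_dvd_card _))
  haveI : (P : Subgroup X).Normal := by rw [hPC]; infer_instance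
  rw [P.card_eq_index_normalizer]
  show (Subgroup.normalizer ((P : Subgroup X) : Set X)).index = 1
  rw [Subgroup.normalizer_eq_top, Subgroup.index_top]

/-- The reverse direction for a group with trivial `p'`-core and small Sylow subgroups. -/
theorem isPSolvable_of_primePow (hcore : Cfsg.pPrimeCore p X = ⊥) (hsq : ¬ p ^ 2 ∣ Nat.card X)
    (hlt : Nat.card (Sylow p X) < p ^ 2) (hmer : ¬ (3 < p ∧ ∃ k : ℕ, p + 1 = 2 ^ k))
    {q k : ℕ} (hq : q.Prime) (hnq : Nat.card (Sylow p X) = q ^ k) : Cfsg.IsPSolvable p X := by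
  obtain ⟨P⟩ : Nonempty (Sylow p X) := Sylow.nonempty
  by_cases hPn : (P : Subgroup X).Normal
  · refine Fusion.isPSolvable_of_normal_quotient (P : Subgroup X) (Or.inl P.isPGroup'.exists_card_eq) ?_
    refine Fusion.isPSolvable_of_coprime ?_
    rw [← Subgroup.index_eq_card]
    exact (hp.out.coprime_iff_not_dvd.mpr P.not_dvd_index).symm
  exfalso
  have hX : Nontrivial X := by
    by_contra h
    rw [not_nontrivial_iff_subsingleton] at h
    exact hPn ⟨fun a ha g => by rwa [Subsingleton.elim (g * a * g⁻¹) a]⟩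
  obtain ⟨N, ⟨hN0, hNn⟩, hmin⟩ := exists_minimal_of_wellFoundedLT
    (fun N : Subgroup X => N ≠ ⊥ ∧ N.Normal) ⟨⊤, top_ne_bot, inferInstance⟩
  haveI := hNn
  have hpN : p ∣ Nat.card N := by
    by_contra h
    exact hN0 (le_bot_iff.mp (hcore ▸ Basics.le_pPrimeCore (hp.out.coprime_iff_not_dvd.mpr h).symm))
  have hsqN : ¬ p ^ 2 ∣ Nat.card N := fun h => hsq (h.trans (Subgroup.card_subgroup_dvd_card N))
  obtain ⟨R⟩ : Nonempty (Sylow p N) := Sylow.nonempty
  have hR : Nat.card R = p := by
    rw [R.card_eq_multiplicity, show (Nat.card N).factorization p = 1 from ?_, pow_one]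
    have h1 := (hp.out.dvd_iff_one_le_factorization Nat.card_pos.ne').mp hpN
    by_contra hne
    exact hsqN ((hp.out.pow_dvd_iff_le_factorization Nat.card_pos.ne').mpr (by omega))
  -- the normal subgroups of `X` inside `N` are trivial
  have hsub : ∀ L : Subgroup N, L.Characteristic → L = ⊥ ∨ L = ⊤ := by
    intro L hL
    by_cases h0 : L = ⊥
    · exact Or.inl h0
    right
    have h1 : N ≤ L.map N.subtype := hmin
      ⟨fun h => h0 ((Subgroup.map_eq_bot_iff_of_injective _ N.subtype_injective).mp h),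
        inferInstance⟩ (Subgroup.map_subtype_le L)
    rw [eq_top_iff]
    intro x _
    obtain ⟨y, hy, hyx⟩ := h1 x.2
    rwa [← N.subtype_injective hyx]
  have hdiv := SylowNumbers.card_sylow_normal_dvd N p
  have hne1 : Nat.card (Sylow p N) ≠ 1 := by
    intro h
    haveI : Subsingleton (Sylow p N) := (Nat.card_eq_one_iff_unique.mp h).1
    haveI := R.normal_of_subsingleton
    rcases hsub R (R.characteristic_of_normal inferInstance) with h0 | h0
    · have := hR
      rw [show Nat.card ↥(R : Subgroup N) = 1 by rw [h0, Subgroup.card_bot]] at this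
      exact hp.out.ne_one this.symm
    · -- `N` is a `p`-group, hence the Sylow subgroup
      have hNp : IsPGroup p N := IsPGroup.of_card (n := 1) (by
        rw [pow_one, ← Subgroup.card_top (G := N), ← h0]; exact hR)
      have hle : N ≤ P := hNp.le_sylow_of_normal P
      have heq : N = (P : Subgroup X) := by
        refine Subgroup.eq_of_le_of_card_ge hle ?_
        obtain ⟨a, ha⟩ := P.isPGroup'.exists_card_eq
        have : a ≤ 1 := by
          by_contra hgt
          exact hsq ((pow_dvd_pow p (show 2 ≤ a by omega)).trans (ha ▸ Subgroup.card_subgroup_dvd_card _))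
        rw [ha]
        exact (Nat.pow_le_pow_right hp.out.pos this).trans (by
          rw [pow_one]; exact Nat.le_of_dvd Nat.card_pos hpN)
      exact hPn (heq ▸ hNn)
  have hperf : commutator N = ⊤ := by
    rcases hsub (commutator N) inferInstance with h | h
    · exfalso
      refine hne1 ?_
      haveI : (R : Subgroup N).Normal := ⟨fun a ha g => by
        have hc : ⁅g, a⁆ ∈ commutator N :=
          Subgroup.commutator_mem_commutator (Subgroup.mem_top g) (Subgroup.mem_top a)
        rw [h, Subgroup.mem_bot, commutatorElement_eq_one_iff_commute] at hc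
        rwa [hc.eq, mul_inv_cancel_right]⟩
      rw [R.card_eq_index_normalizer]
      show (Subgroup.normalizer ((R : Subgroup N) : Set N)).index = 1
      rw [Subgroup.normalizer_eq_top, Subgroup.index_top]
    · exact h
  have hcoreN : Cfsg.pPrimeCore p N = ⊥ := by
    rcases hsub (Cfsg.pPrimeCore p N) inferInstance with h | h
    · exact h
    · exact absurd hpN (by
        rw [← Subgroup.card_top (G := N), ← h]
        exact Basics.not_dvd_card_pPrimeCore p)
  obtain ⟨j, -, hj⟩ := (Nat.dvd_prime_pow hq).mp (hnq ▸ hdiv)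
  exact perfect_not_primePow hperf R hR hcoreN hmer
    ((Nat.le_of_dvd Nat.card_pos hdiv).trans_lt hlt) hq hj

variable {G : Type u} [Group G] [Finite G]

/-- The theorem. -/
theorem isPSolvable_iff (hmer : ¬ (3 < p ∧ ∃ k : ℕ, p + 1 = 2 ^ k))
    (hlt : Nat.card (Sylow p G) < p ^ 2) :
    Cfsg.IsPSolvable p G ↔ ∃ q k : ℕ, q.Prime ∧ Nat.card (Sylow p G) = q ^ k := by
  set N := Cfsg.pCore p G
  set Q := G ⧸ N
  have hnQ : Nat.card (Sylow p Q) = Nat.card (Sylow p G) := card_sylow_quotient_pCore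
  have hsqQ : ¬ p ^ 2 ∣ Nat.card Q := not_sq_dvd_quotient_pCore hlt
  set K := Cfsg.pPrimeCore p Q
  have hKd : ¬ p ∣ Nat.card K := Basics.not_dvd_card_pPrimeCore p
  obtain ⟨m, hm, hm0, hmq⟩ := exists_factor K hKd
  have hcoreX : Cfsg.pPrimeCore p (Q ⧸ K) = ⊥ := Basics.pPrimeCore_quotient_eq_bot p
  have hsqX : ¬ p ^ 2 ∣ Nat.card (Q ⧸ K) := fun h =>
    hsqQ (h.trans (Subgroup.card_quotient_dvd_card K))
  constructor
  · intro hsolv
    have h1 := card_sylow_eq_one_of_isPSolvable hcoreX hsqX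
      (Coprime23.isPSolvable_map _ (QuotientGroup.mk'_surjective K)
        (Coprime23.isPSolvable_map _ (QuotientGroup.mk'_surjective N) hsolv))
    rw [hnQ, h1, one_mul] at hm
    rw [hm]
    exact factor_primePow hm0 (hm ▸ hlt) hmq
  · rintro ⟨q, k, hq, hnq⟩
    rw [← hnQ] at hnq
    have hdiv : Nat.card (Sylow p (Q ⧸ K)) ∣ q ^ k := hnq ▸ hm ▸ dvd_mul_right _ _
    obtain ⟨j, -, hj⟩ := (Nat.dvd_prime_pow hq).mp hdiv
    have hltX : Nat.card (Sylow p (Q ⧸ K)) < p ^ 2 := by
      refine lt_of_le_of_lt (Nat.le_of_dvd Nat.card_pos ?_) (hnQ ▸ hlt)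
      exact hm ▸ dvd_mul_right _ _
    refine Fusion.isPSolvable_of_normal_quotient N
      (Or.inl (Basics.pCore_isPGroup (G := G) p).exists_card_eq) ?_
    exact Fusion.isPSolvable_of_normal_quotient K (Or.inr (Basics.pPrimeCore_coprime p))
      (isPSolvable_of_primePow hcoreX hsqX hltX hmer hq hj)

end Cfsg.Agent.Blocks.SylowLtSquare
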